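import Cfsg.Agent.H609.TH.Expl
import Cfsg.Agent.H609.TH.Link
import Cfsg.Agent.OddHalf.Table.OutMTwelve
import Cfsg.Agent.CpAutCo3.MTw
import Cfsg.Agent.H994.TwoGen.M12
import Cfsg.Agent.Schreier.MTwelve

/-!
# S3938, the row `M₁₂` (helper602)

* `gen_of` : a pair of words generates `M₁₂` if the two generators `X`, `Y` of `H994.TwoGen.M12` are words in them;
* `goodI` : every element of prime order lies in a generating pair (the classes 2A, 2B, 3A, 3B, 5A, 11AB);
* `goodA_outer` : the outer involutions are all conjugate (`OutAut.twisted`);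
* `spr_m12`.
-/

set_option autoImplicit false
set_option linter.unusedVariables false
set_option maxRecDepth 100000

namespace Cfsg.Agent.H602.SprM12

open Subgroup Cfsg Cfsg.Agent.H609.TH Cfsg.Agent.CoThreeStd.MTwelve Cfsg.Agent.CoThreeStd.InvTwo
open Cfsg.Agent.CoThreeStd.OutAut (alpha_alpha alpha_wd aw twisted)
open Cfsg.Agent.MTwelveType.SylowModel (card_M12 ext_M12)

local notation "αα" => Cfsg.Agent.CoThreeStd.OutAut.alpha

/-- word of the first generator -/
def wX : List ℕ := [2, 1, 5, 4, 3, 5, 0, 5, 1]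
/-- word of the second generator -/
def wY : List ℕ := [4, 5, 4, 1, 5, 4]

theorem wd_X : wd wX = ⟨H994.TwoGen.M12.X, H994.TwoGen.M12.X_mem⟩ := ext_M12 (by decide +kernel)
theorem wd_Y : wd wY = ⟨H994.TwoGen.M12.Y, H994.TwoGen.M12.Y_mem⟩ := ext_M12 (by decide +kernel)

theorem gen_XY : closure ({wd wX, wd wY} : Set Spor.M12) = ⊤ := by
  apply Subgroup.map_injective Spor.M12.subtype_injective
  rw [MonoidHom.map_closure, Set.image_pair, ← MonoidHom.range_eq_map, Subgroup.range_subtype, wd_X, wd_Y]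
  exact H994.TwoGen.M12.closure_eq

/-- substitution: the letters 0, 1, 2, 3 are `a, b, a⁻¹, b⁻¹` -/
def sb (a b : List ℕ) : List ℕ → List ℕ
  | [] => []
  | 0 :: w => a ++ sb a b w
  | 1 :: w => b ++ sb a b w
  | 2 :: w => a.reverse ++ sb a b w
  | _ :: w => b.reverse ++ sb a b w

theorem sb_mem (a b : List ℕ) : ∀ w : List ℕ, wd (sb a b w) ∈ closure ({wd a, wd b} : Set Spor.M12)
  | [] => one_mem _
  | 0 :: w => by
    rw [sb, wd_append]
    exact mul_mem (Subgroup.subset_closure (Or.inl rfl)) (sb_mem a b w)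
  | 1 :: w => by
    rw [sb, wd_append]
    exact mul_mem (Subgroup.subset_closure (Or.inr rfl)) (sb_mem a b w)
  | 2 :: w => by
    rw [sb, wd_append, ← wd_reverse]
    exact mul_mem (inv_mem (Subgroup.subset_closure (Or.inl rfl))) (sb_mem a b w)
  | (_ + 3) :: w => by
    show wd (b.reverse ++ sb a b w) ∈ _
    rw [wd_append, ← wd_reverse]
    exact mul_mem (inv_mem (Subgroup.subset_closure (Or.inr rfl))) (sb_mem a b w)

theorem gen_of {a b u v : List ℕ} (hu : eqW (sb a b u) wX = true) (hv : eqW (sb a b v) wY = true) :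
    closure ({wd a, wd b} : Set Spor.M12) = ⊤ := by
  rw [eq_top_iff, ← gen_XY, closure_le]
  rintro z (rfl | rfl)
  · rw [← wd_eq hu]
    exact sb_mem a b u
  · rw [← wd_eq hv]
    exact sb_mem a b v

/-! ### Representatives of the elements of prime order -/

theorem good_y : GoodI (wd [0]) :=
  ⟨wd [3, 2, 5], gen_of (u := [2, 1, 2, 2, 1, 0, 1, 2, 2, 1, 0, 1, 2, 1, 2, 1])
    (v := [0, 0, 0, 1, 0, 0, 1, 0, 1, 0, 0, 1, 2, 2]) (by decide +kernel) (by decide +kernel)⟩

theorem good_pr : GoodI (wd [1, 3]) :=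
  ⟨wd [4, 2, 5, 3], gen_of (u := [2, 2, 1, 0, 0, 1, 2, 1, 0, 1, 2, 1, 2, 2, 1, 0]) (v := [0, 1, 0, 0, 0, 0, 1, 2])
    (by decide +kernel) (by decide +kernel)⟩

theorem good_A0 : GoodI (wd [5, 4, 3, 2, 1, 0]) :=
  ⟨wd [3, 2, 5, 1], gen_of (u := [0, 0, 1, 2]) (v := [1, 0, 3, 0, 0, 0, 1, 2, 2, 3, 2, 3, 0])
    (by decide +kernel) (by decide +kernel)⟩

theorem good_B0 : GoodI (wd [2, 1]) :=
  ⟨wd [2, 5, 4], gen_of (u := [3, 2, 3, 2, 1, 2, 2, 3, 2]) (v := [1, 2, 3, 0, 0])
    (by decide +kernel) (by decide +kernel)⟩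

theorem good_five : GoodI (wd [0, 5]) :=
  ⟨wd [3, 4, 1], gen_of (u := [0, 1, 1, 0, 0, 3, 2, 1]) (v := [3, 2, 2, 1, 2, 1, 0, 3, 0, 0])
    (by decide +kernel) (by decide +kernel)⟩

theorem good_eleven : GoodI (wd [0, 5, 1, 2]) :=
  ⟨wd [3, 2, 5], gen_of (u := [1, 1, 0, 3, 2, 2, 1, 2, 2]) (v := [1, 2, 2, 2, 1, 2, 2, 2])
    (by decide +kernel) (by decide +kernel)⟩

theorem order_five : orderOf (wd [0, 5]) = 5 := by
  have : Fact (Nat.Prime 5) := ⟨by norm_num⟩
  refine orderOf_eq_prime ?_ ?_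
  · rw [← CpAutCo3.MTw.wd_wp]
    exact wd_eq (l' := []) (by decide +kernel)
  · exact wd_ne (l' := []) 0 (by norm_num) (by decide +kernel)

theorem order_eleven : orderOf (wd [0, 5, 1, 2]) = 11 := by
  have : Fact (Nat.Prime 11) := ⟨by norm_num⟩
  refine orderOf_eq_prime ?_ ?_
  · rw [← CpAutCo3.MTw.wd_wp]
    exact wd_eq (l' := []) (by decide +kernel)
  · exact wd_ne (l' := []) 0 (by norm_num) (by decide +kernel)

instance finM : Finite Spor.M12 := Nat.finite_of_card_ne_zero (by rw [card_M12]; norm_num)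

/-- **Inner automorphisms.** -/
theorem goodI (g : Spor.M12) (hg : (orderOf g).Prime) : GoodI g := by
  have hd : orderOf g ∣ 95040 := by
    rw [← card_M12]
    exact orderOf_dvd_natCard g
  have hne : g ≠ 1 := by
    rintro rfl
    rw [orderOf_one] at hg
    exact Nat.not_prime_one hg
  have hp : orderOf g = 2 ∨ orderOf g = 3 ∨ orderOf g = 5 ∨ orderOf g = 11 := by
    have h1 : orderOf g ∈ Nat.primeFactors 95040 := Nat.mem_primeFactors.2 ⟨hg, hd, by norm_num⟩
    have h2 : Nat.primeFactors 95040 = {2, 3, 5, 11} := by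
      have : (95040 : ℕ) = 2 ^ 6 * (3 ^ 3 * (5 ^ 1 * 11 ^ 1)) := by norm_num
      rw [this, Nat.primeFactors_mul (by norm_num) (by norm_num), Nat.primeFactors_mul (by norm_num) (by norm_num),
        Nat.primeFactors_mul (by norm_num) (by norm_num), Nat.primeFactors_prime_pow (by norm_num) Nat.prime_two,
        Nat.primeFactors_prime_pow (by norm_num) Nat.prime_three,
        Nat.primeFactors_prime_pow (by norm_num) (by norm_num : Nat.Prime 5),
        Nat.primeFactors_prime_pow (by norm_num) (by norm_num : Nat.Prime 11)]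
      rfl
    rw [h2] at h1
    simpa using h1
  have hpow := pow_orderOf_eq_one g
  rcases hp with h | h | h | h
  · rw [h, pow_two] at hpow
    rcases inv2.cases g hpow hne with ⟨c, hc⟩ | ⟨c, hc⟩
    · refine GoodI.of_conj c ?_
      have e : c * g * c⁻¹ = wd [0] := by
        rw [wd_cons, wd_nil, mul_one, ← hc]
        show c * (c⁻¹ * y * c) * c⁻¹ = y
        group
      rw [e]
      exact good_y
    · refine GoodI.of_conj c ?_
      have e : c * g * c⁻¹ = wd [1, 3] := by
        rw [wd_cons, wd_cons, wd_nil, mul_one, ← hc]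
        show c * (c⁻¹ * (p * r) * c) * c⁻¹ = p * r
        group
      rw [e]
      exact good_pr
  · rw [h] at hpow
    rcases CpAutCo3.MTw.classes hne hpow with ⟨m, rfl⟩ | ⟨m, rfl⟩
    · refine GoodI.of_conj m ?_
      have e : m * (m⁻¹ * CpAutCo3.MTw.A0 * m) * m⁻¹ = wd [5, 4, 3, 2, 1, 0] := by
        show m * (m⁻¹ * wd [5, 4, 3, 2, 1, 0] * m) * m⁻¹ = _
        group
      rw [e]
      exact good_A0
    · refine GoodI.of_conj m ?_
      have e : m * (m⁻¹ * CpAutCo3.MTw.B0 * m) * m⁻¹ = wd [2, 1] := by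
        show m * (m⁻¹ * wd [2, 1] * m) * m⁻¹ = _
        group
      rw [e]
      exact good_B0
  · exact goodI_of_sq (by norm_num) (by rw [card_M12]; norm_num) order_five good_five g h
  · exact goodI_of_sq (by norm_num) (by rw [card_M12]; norm_num) order_eleven good_eleven g h

/-! ### Outer automorphisms -/

open OddHalf.Table.OutMTwelve (al)

theorem goodA_al : GoodA al := by
  refine goodA_of_pair (x := wd [1, 5]) ?_
  have e : al (wd [1, 5]) = wd [0, 1, 1, 4, 5, 1, 4] := alpha_wd [1, 5]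
  rw [e]
  exact gen_of (u := [2, 1, 2, 1, 2, 1, 0, 3, 2, 1]) (v := [3, 0, 1, 0, 0, 1, 0, 0, 1, 0, 1])
    (by decide +kernel) (by decide +kernel)

theorem goodA_outer (a : MulAut Spor.M12) (ha : (orderOf a).Prime) (hne : ∀ g : Spor.M12, a ≠ MulAut.conj g) :
    GoodA a := by
  -- `a m = α (m0 m m0⁻¹)`
  obtain ⟨m0, hm0⟩ : ∃ m0, al * a = MulAut.conj m0 := by
    rcases OddHalf.Table.OutMTwelve.mem_or_mem a with ⟨m, hm⟩ | ⟨m, hm⟩
    · exact absurd hm.symm (hne m)
    · exact ⟨m, hm.symm⟩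
  have hal : al * al = 1 := MulEquiv.ext fun x => alpha_alpha x
  have ha1 : a = al * MulAut.conj m0 := by rw [← hm0, ← mul_assoc, hal, one_mul]
  have haa : a * a = MulAut.conj (αα m0 * m0) := by
    rw [ha1]
    apply MulEquiv.ext
    intro x
    show αα (m0 * αα (m0 * x * m0⁻¹) * m0⁻¹) = (αα m0 * m0) * x * (αα m0 * m0)⁻¹
    rw [map_mul, map_mul, alpha_alpha, map_inv]
    group
  -- the order of `a` is two
  have h2 : orderOf a = 2 := by
    by_contra h2
    obtain ⟨k, hk⟩ := ha.odd_of_ne_two h2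
    apply hne ((αα m0 * m0) ^ (k + 1))
    rw [map_pow, ← haa]
    have h1 := pow_orderOf_eq_one a
    rw [hk] at h1
    calc a = a ^ (2 * k + 1) * a := by rw [h1, one_mul]
      _ = (a * a) ^ (k + 1) := by
          rw [← pow_two, ← pow_mul, ← pow_succ]
          congr 1
  have h1 : a * a = 1 := by
    rw [← pow_two, ← h2]
    exact pow_orderOf_eq_one a
  have hs : IsSimpleGroup Spor.M12 := Schreier.MTwelve.isSimpleGroup
  have h3 : αα m0 * m0 = 1 := by
    rw [haa] at h1
    have hc : αα m0 * m0 ∈ center Spor.M12 := by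
      rw [mem_center_iff]
      intro x
      have h4 : MulAut.conj (αα m0 * m0) x = x := by rw [h1]; rfl
      rw [MulAut.conj_apply] at h4
      calc x * (αα m0 * m0) = (αα m0 * m0) * x * (αα m0 * m0)⁻¹ * (αα m0 * m0) := by rw [h4]
        _ = _ := by group
    rcases IsSimpleGroup.eq_bot_or_eq_top_of_normal (center Spor.M12) inferInstance with h5 | h5
    · rwa [h5, mem_bot] at hc
    · exfalso
      obtain ⟨x, z, hxz⟩ := exists_not_comm card_M12 (by norm_num)
      exact hxz (mem_center_iff.1 (by rw [h5]; exact mem_top z) x)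
  obtain ⟨n, hn⟩ := twisted m0 h3
  refine GoodA.of_conj (MulAut.conj n) ?_
  have e : MulAut.conj n * a * (MulAut.conj n)⁻¹ = al := by
    rw [ha1, hn]
    apply MulEquiv.ext
    intro x
    rw [← map_inv]
    show n * αα ((αα n)⁻¹ * n * (n⁻¹ * x * n⁻¹⁻¹) * ((αα n)⁻¹ * n)⁻¹) * n⁻¹ = αα x
    rw [mul_inv_rev, inv_inv, inv_inv]
    have e2 : (αα n)⁻¹ * n * (n⁻¹ * x * n) * (n⁻¹ * αα n) = (αα n)⁻¹ * x * αα n := by group
    rw [e2, map_mul, map_mul, map_inv, alpha_alpha]
    group
  rw [e]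
  exact goodA_al

theorem spr_model : Cfsg.Agent.H424.Spr.Spr Spor.M12 := by
  have hs : IsSimpleGroup Spor.M12 := Schreier.MTwelve.isSimpleGroup
  refine spr_of_parts (exists_not_comm card_M12 (by norm_num)) goodI goodA_outer

/-- **S3938, the row `M₁₂`.** -/
theorem spr_m12 (known : Cfsg.Agent.H257.El.Known.{0}) {T : Type} [Group T] [Finite T] (h : Spor.IsoM12 T) :
    Cfsg.Agent.H424.Spr.Spr T := by
  obtain ⟨e⟩ := h
  exact Cfsg.Agent.H424.Spr.Spr.congr e.symm spr_model

end Cfsg.Agent.H602.SprM12
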