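import Cfsg.Agent.H609.TH.Expl
import Cfsg.Agent.H609.TH.Link
import Cfsg.Agent.H455.Cov.Tool
import Cfsg.Agent.H323.SuzOut
import Cfsg.Agent.H265.SuzEven
import Cfsg.Agent.CpAutSuz.Local
import Cfsg.Agent.KFacts.SuzInvol
import Cfsg.Agent.KFacts.SuzOut
import Cfsg.Agent.SporRec.SuzNo143
import Cfsg.Agent.OrdDiv.Table
import Cfsg.Agent.NotCT.Orders

/-!
# S3938, the row `Suz` (helper602)

No proper subgroup has order divisible by `11 * 13` (`top_of`).  For every class of elements `g` of prime order there is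
a word `x` of order 13 with `x g` of order 11 (`g ∈ {a, e, y0, z1, t1, f1 ^ i f2 ^ j, u7, u11}`), and for the two classes
`ρ`, `σ` of outer involutory automorphisms a word `x` of order 13 with `x * ρ x` of order 11.
-/

set_option autoImplicit false
set_option maxRecDepth 100000
set_option exponentiation.threshold 4000

namespace Cfsg.Agent.H602.SprSuz

open Subgroup Cfsg Cfsg.Agent.H609.TH
open Cfsg.Spor (Suz)
open Cfsg.Agent.Lib.PermNet Cfsg.Agent.Lib.PermNetOrbit Cfsg.Agent.SporadicRecognition.SuzPhi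
  Cfsg.Agent.SporadicRecognition.SuzBound Cfsg.Agent.SporadicRecognition.SuzOrder
  Cfsg.Agent.SuzThree.Nets Cfsg.Agent.SuzThree.Basic
open Cfsg.Agent.SporRec.SuzCl (Fx card_Fx_conj)
open Cfsg.Agent.CpAutSuz.Fix Cfsg.Agent.CpAutSuz.Gen Cfsg.Agent.CpAutSuz.Classes
open Cfsg.Agent.SuzThree.ThreeWr (y0 rep_y0)
open Cfsg.Agent.SuzThree.CentA (z0)
open Cfsg.Agent.KFacts.SuzLFour (e0)

local notation "ρρ" => Cfsg.Agent.KFacts.SuzRho.rho
local notation "σσ" => Cfsg.Agent.KFacts.SuzRho.sigma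

/-! ### No elements of order 35, 143 -/

theorem no35 {x y : Suz} (hx : orderOf x = 5) (hy : orderOf y = 7) (h : x * y = y * x) : False := by
  -- `x` fixes the four fixed points of `y`
  have h1 := H323.SuzOut.fix_modEq (l := 5) (by norm_num) hx (Fx y) (fun a ha => φ_fix_of_comm h ha)
  have h2 := H323.SuzOut.fix_modEq (l := 7) (by norm_num) hy (Fx x) (fun a ha => φ_fix_of_comm h.symm ha)
  have e : (Fx y).filter (fun a => φ x a = a) = (Fx x).filter fun a => φ y a = a := by
    ext a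
    rw [Finset.mem_filter, Finset.mem_filter, mem_Fx, mem_Fx]
    tauto
  rw [card_Fx_seven hy, e] at h1
  have h3 : ((Fx x).filter fun a => φ y a = a).card ≤ 4 := by
    rw [← e, ← card_Fx_seven hy]
    exact Finset.card_filter_le _ _
  have h4 : ((Fx x).filter fun a => φ y a = a).card = 4 := by
    unfold Nat.ModEq at h1
    omega
  rw [h4] at h2
  rcases CpAutSuz.Five.card_Fx_five hx with h5 | h5 <;> rw [h5] at h2 <;> exact absurd h2 (by decide)

theorem ne35 (z : Suz) : orderOf z ≠ 35 := by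
  intro hz
  have h5 : orderOf (z ^ 7) = 5 := by
    rw [orderOf_pow_of_dvd (by norm_num) (by rw [hz]; norm_num), hz]
  have h7 : orderOf (z ^ 5) = 7 := by
    rw [orderOf_pow_of_dvd (by norm_num) (by rw [hz]; norm_num), hz]
  exact no35 h5 h7 (by rw [← pow_add, ← pow_add])

theorem ne143 (z : Suz) : orderOf z ≠ 13 * 11 := by
  intro hz
  have h13 : orderOf (z ^ 11) = 13 := by
    rw [orderOf_pow_of_dvd (by norm_num) (by rw [hz]; norm_num), hz]
  have h11 : orderOf (z ^ 13) = 11 := by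
    rw [orderOf_pow_of_dvd (by norm_num) (by rw [hz]; norm_num), hz]
  exact SporRec.SuzNo143.no143 _ _ h13 h11 (by rw [← pow_add, ← pow_add])

/-! ### Overgroups -/

/-- the factorisation of the order -/
def l : List (ℕ × ℕ) := [(2, 13), (3, 7), (5, 2), (7, 1), (11, 1), (13, 1)]

open Equiv Equiv.Perm in
theorem alt_35 : ∃ x : alternatingGroup (Fin 13), orderOf x = 35 := by
  refine ⟨⟨c[0, 1, 2, 3, 4] * c[5, 6, 7, 8, 9, 10, 11], by
      rw [mem_alternatingGroup]
      decide +kernel⟩, orderOf_eq_of_pow_and_pow_div_prime (by norm_num) (by decide +kernel) fun p hp hd => ?_⟩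
  have h1 : p = 5 ∨ p = 7 := by
    have h2 : p ∣ 5 * 7 := hd
    rcases hp.dvd_mul.1 h2 with h3 | h3
    · exact Or.inl ((Nat.prime_dvd_prime_iff_eq hp (by norm_num)).1 h3)
    · exact Or.inr ((Nat.prime_dvd_prime_iff_eq hp (by norm_num)).1 h3)
  rcases h1 with rfl | rfl
  · show _ ^ 7 ≠ 1
    decide +kernel
  · show _ ^ 5 ≠ 1
    decide +kernel

theorem surv_eq : (H257.El.surv 448345497600 l 13 [11]).all (fun g => decide (g = .alt 13)) = true := by decide +kernel

theorem not_both (known : H257.El.Known.{0}) {R : Subgroup Suz} (hR : R ≠ ⊤) (h11 : 11 ∣ Nat.card R)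
    (h13 : 13 ∣ Nat.card R) : False := by
  have hfin : Finite Suz := Nat.finite_of_card_ne_zero (by rw [card_Suz]; norm_num)
  have S : H257.El.SitP Suz 448345497600 l 13 R :=
    H257.El.sitP_of OrdDiv.table known card_Suz (by decide +kernel) (by norm_num) (by decide +kernel) hR h13
  obtain ⟨O, hO, N, h⟩ := S.exists_top
  have h6 : 11 ∣ Nat.card N := S.dvd_simple h (by norm_num) ne143 (by decide +kernel) h11
  have hna : ¬ ∀ x y : N, x * y = y * x := by
    intro hc
    rw [h.card_of_comm hc] at h6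
    norm_num at h6
  obtain ⟨g, hg, hr, -⟩ := S.exists_surv h hna [11] (by simpa using h6)
  have hg' := surv_eq
  rw [List.all_eq_true] at hg'
  have hg'' : g = .alt 13 := of_decide_eq_true (hg' g hg)
  subst hg''
  obtain ⟨e⟩ := hr
  obtain ⟨σ, hσ⟩ := alt_35
  obtain ⟨z, hz⟩ := H257.El.Sit.exists_orderOf (N := N) (k := 35) ⟨e.symm σ, by rw [MulEquiv.orderOf_eq, hσ]⟩
  exact ne35 z hz

theorem top_of (known : H257.El.Known.{0}) {R : Subgroup Suz} {x y : Suz} (hx : x ∈ R) (hy : y ∈ R)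
    (h13 : 13 ∣ orderOf x) (h11 : 11 ∣ orderOf y) : R = ⊤ := by
  by_contra hne
  exact not_both known hne (h11.trans (Subgroup.orderOf_dvd_natCard _ hy)) (h13.trans (Subgroup.orderOf_dvd_natCard _ hx))

/-! ### Words -/

/-- repetition -/
def rp (n : ℕ) (w : List Net) : List Net := (List.replicate n w).flatten

theorem rep_pow {g : Suz} {w : List Net} (h : Rep g w) : ∀ n, Rep (g ^ n) (rp n w)
  | 0 => by
    rw [pow_zero]
    exact Rep.one
  | n + 1 => by
    have e : rp (n + 1) w = w ++ rp n w := by rw [rp, List.replicate_succ, List.flatten_cons]; rfl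
    rw [pow_succ', e]
    exact h.mul (rep_pow h n)

/-- a point in a cycle of length `r` -/
theorem dvd_of_pt {g : Suz} {w : List Net} (hg : Rep g w) {r : ℕ} (hr : r.Prime) {p q : ℕ}
    (h1 : mv (rp r w) p p = true) (h2 : mv w p q = true) (hpq : p ≠ q) : r ∣ orderOf g := by
  have h3 : Function.minimalPeriod (φ g) p ∣ r := by
    apply Function.IsPeriodicPt.minimalPeriod_dvd
    change (⇑(φ g))^[r] p = p
    rw [← Equiv.Perm.coe_pow, ← map_pow]
    exact (rep_pow hg r).pt h1
  have h4 : Function.minimalPeriod (φ g) p = r := by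
    rcases (Nat.dvd_prime hr).1 h3 with h | h
    · exact absurd ((Function.minimalPeriod_eq_one_iff_isFixedPt.1 h).symm.trans (hg.pt h2)) hpq
    · exact h
  rw [← h4]
  apply Function.IsPeriodicPt.minimalPeriod_dvd
  change (⇑(φ g))^[orderOf g] p = p
  rw [← Equiv.Perm.coe_pow, ← map_pow, pow_orderOf_eq_one, map_one]
  rfl

/-- a representative -/
theorem good_of (known : H257.El.Known.{0}) {g : Suz} {w : List Net} (hg : Rep g w) (u : List Suz.Gen) (p q p' q' : ℕ)
    (h1 : mv (rp 13 (wd u)) p' p' = true) (h2 : mv (wd u) p' q' = true) (hpq' : p' ≠ q')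
    (h3 : mv (rp 11 (wd u ++ w)) p p = true) (h4 : mv (wd u ++ w) p q = true) (hpq : p ≠ q) : GoodI g := by
  refine ⟨el u, ?_⟩
  have hx : el u ∈ closure ({el u, g} : Set Suz) := Subgroup.subset_closure (Or.inl rfl)
  have hg' : g ∈ closure ({el u, g} : Set Suz) := Subgroup.subset_closure (Or.inr rfl)
  exact top_of known hx (mul_mem hx hg') (dvd_of_pt (Rep.el u) (by norm_num) h1 h2 hpq')
    (dvd_of_pt ((Rep.el u).mul hg) (by norm_num) h3 h4 hpq)

/-- an outer automorphism -/
theorem goodA_of (known : H257.El.Known.{0}) {α : MulAut Suz} (u v : List Suz.Gen) (hα : α (el u) = el v) (p q p' q' : ℕ)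
    (h1 : mv (rp 13 (wd u)) p' p' = true) (h2 : mv (wd u) p' q' = true) (hpq' : p' ≠ q')
    (h3 : mv (rp 11 (wd u ++ wd v)) p p = true) (h4 : mv (wd u ++ wd v) p q = true) (hpq : p ≠ q) : GoodA α := by
  refine goodA_of_pair (x := el u) ?_
  rw [hα]
  have hx : el u ∈ closure ({el u, el v} : Set Suz) := Subgroup.subset_closure (Or.inl rfl)
  have hg' : el v ∈ closure ({el u, el v} : Set Suz) := Subgroup.subset_closure (Or.inr rfl)
  exact top_of known hx (mul_mem hx hg') (dvd_of_pt (Rep.el u) (by norm_num) h1 h2 hpq')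
    (dvd_of_pt ((Rep.el u).mul (Rep.el v)) (by norm_num) h3 h4 hpq)

section

variable (known : H257.El.Known.{0})

include known

theorem g2a : GoodI z0 :=
  good_of known (Rep.el [.a]) [.b, .a, .c, .d, .f, .c, .b, .f, .c, .g, .e, .d] 0 55 0 55 (by decide +kernel)
    (by decide +kernel) (by norm_num) (by decide +kernel) (by decide +kernel) (by norm_num)

theorem g2b : GoodI e0 :=
  good_of known (Rep.el [.e]) [.f, .b, .d, .c, .f, .b, .a, .c, .a, .c, .e, .f, .d, .a, .c, .e, .b, .g] 0 336 0 336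
    (by decide +kernel) (by decide +kernel) (by norm_num) (by decide +kernel) (by decide +kernel) (by norm_num)

theorem g3a : GoodI y0 :=
  good_of known rep_y0 [.g, .f, .c, .d, .g, .b, .e, .d, .f, .c, .d, .a, .b, .e, .c, .g, .a, .c] 0 149 0 149
    (by decide +kernel) (by decide +kernel) (by norm_num) (by decide +kernel) (by decide +kernel) (by norm_num)

theorem g3b : GoodI z1 :=
  good_of known rep_z1 [.c, .d, .c, .e, .a, .g, .b] 0 310 0 1
    (by decide +kernel) (by decide +kernel) (by norm_num) (by decide +kernel) (by decide +kernel) (by norm_num)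

theorem g3c : GoodI t1 :=
  good_of known (Rep.el [.c, .b]) [.b, .f, .b, .c, .d, .e, .c, .g] 0 5 0 5
    (by decide +kernel) (by decide +kernel) (by norm_num) (by decide +kernel) (by decide +kernel) (by norm_num)

theorem g7 : GoodI u7 :=
  good_of known (Rep.el [.b, .c, .f, .g]) [.d, .b, .f, .c, .d, .c, .e] 0 55 1 2
    (by decide +kernel) (by decide +kernel) (by norm_num) (by decide +kernel) (by decide +kernel) (by norm_num)

end

open CpAutSuz.Five (f1 f2 f1_pow f2_pow f_comm Y0 mem_Y0)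

theorem rep5 (k : ℕ) : Rep (f1 * f2 ^ k) (wd CpAutSuz.Five.w1 ++ rp k (wd CpAutSuz.Five.w2)) :=
  (Rep.el _).mul (rep_pow (Rep.el _) k)

section

variable (known : H257.El.Known.{0})

include known

theorem g5_01 : GoodI f2 :=
  good_of known (Rep.el CpAutSuz.Five.w2) [.f, .c, .b, .d, .a, .f, .e, .f, .c, .g, .b, .g, .d] 0 62 0 62
    (by decide +kernel) (by decide +kernel) (by norm_num) (by decide +kernel) (by decide +kernel) (by norm_num)

theorem g5_1 : ∀ k < 5, GoodI (f1 * f2 ^ k) := by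
  intro k hk
  interval_cases k
  · exact good_of known (rep5 0) [.d, .f, .e, .c, .a, .b, .f, .a, .g, .c, .b] 0 18 0 18
      (by decide +kernel) (by decide +kernel) (by norm_num) (by decide +kernel) (by decide +kernel) (by norm_num)
  · exact good_of known (rep5 1) [.c, .d, .e, .a, .f, .b, .f, .g, .f, .c, .d, .f] 0 10 0 10
      (by decide +kernel) (by decide +kernel) (by norm_num) (by decide +kernel) (by decide +kernel) (by norm_num)
  · exact good_of known (rep5 2) [.a, .b, .f, .b, .c, .a, .b, .d, .c, .d, .e, .g] 0 51 0 51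
      (by decide +kernel) (by decide +kernel) (by norm_num) (by decide +kernel) (by decide +kernel) (by norm_num)
  · exact good_of known (rep5 3) [.f, .c, .a, .b, .g, .d, .b, .g, .c, .g, .a, .e, .d, .b] 0 10 0 10
      (by decide +kernel) (by decide +kernel) (by norm_num) (by decide +kernel) (by decide +kernel) (by norm_num)
  · exact good_of known (rep5 4) [.c, .b, .d, .f, .g, .e, .b, .c, .g, .d] 0 9 0 9
      (by decide +kernel) (by decide +kernel) (by norm_num) (by decide +kernel) (by decide +kernel) (by norm_num)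

theorem g5_Y {a : Suz} (ha : a ∈ Y0) (h1 : a ≠ 1) : GoodI a := by
  obtain ⟨i, hi, j, hj, rfl⟩ := mem_Y0 ha
  have hij : ¬ (i = 0 ∧ j = 0) := by
    rintro ⟨rfl, rfl⟩
    exact h1 (by rw [pow_zero, pow_zero, mul_one])
  obtain ⟨m, hm⟩ : ∃ m < 5, (i * m % 5 = 1) ∨ (i * m % 5 = 0 ∧ j * m % 5 = 1) := by
    have key : ∀ i < 5, ∀ j < 5, ¬ (i = 0 ∧ j = 0) → ∃ m < 5, (i * m % 5 = 1) ∨ (i * m % 5 = 0 ∧ j * m % 5 = 1) := by
      decide
    exact key i hi j hj hij
  have hc : Commute f1 f2 := f_comm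
  have e : (f1 ^ i * f2 ^ j) ^ m = f1 ^ (i * m % 5) * f2 ^ (j * m % 5) := by
    rw [(hc.pow_pow i j).mul_pow, ← pow_mul, ← pow_mul, pow_eq_pow_mod (i * m) f1_pow, pow_eq_pow_mod (j * m) f2_pow]
  refine GoodI.of_pow m ?_
  rw [e]
  rcases hm.2 with h2 | ⟨h2, h3⟩
  · rw [h2, pow_one]
    exact g5_1 known _ (Nat.mod_lt _ (by norm_num))
  · rw [h2, h3, pow_zero, pow_one, one_mul]
    exact g5_01 known

theorem g5 {g : Suz} (hg : orderOf g = 5) : GoodI g := by
  have : Fact (Nat.Prime 5) := ⟨by norm_num⟩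
  obtain ⟨c, hc⟩ := CpAutSuz.Five.exists_conj (X := zpowers g)
    (IsPGroup.of_card (n := 1) (by rw [Nat.card_zpowers, hg, pow_one]))
  refine GoodI.of_conj c (g5_Y known (hc ⟨g, mem_zpowers g, rfl⟩) ?_)
  intro h
  have h4 : g = 1 := by
    have : g = c⁻¹ * (c * g * c⁻¹) * c := by group
    rw [this, h]; group
  rw [h4, orderOf_one] at hg
  omega

theorem g3 {g : Suz} (hg : orderOf g = 3) : GoodI g := by
  obtain ⟨u, huu, hu1, hus⟩ := H265.SuzEven.exists_inv (s := g) (by rw [← hg]; exact pow_orderOf_eq_one g)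
  have hu : orderOf u = 2 := orderOf_eq_prime (by rw [pow_two]; exact huu) hu1
  have hconj : ∀ h t : Suz, h * t * h⁻¹ = u → orderOf (h⁻¹ * g * h) = 3 ∧ (h⁻¹ * g * h) * t = t * (h⁻¹ * g * h) := by
    intro h t ht
    refine ⟨?_, ?_⟩
    · have h1 := orderOf_conj h⁻¹ g
      rw [inv_inv] at h1
      rw [h1, hg]
    · calc h⁻¹ * g * h * t = h⁻¹ * (g * (h * t * h⁻¹)) * h := by group
        _ = t * (h⁻¹ * g * h) := by rw [ht, ← hus, ← ht]; group
  have key : ∀ h c t : Suz, c * (h⁻¹ * g * h) * c⁻¹ = t → GoodI t → GoodI g := by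
    intro h c t ht hgt
    refine GoodI.of_conj (c * h⁻¹) ?_
    have e : c * h⁻¹ * g * (c * h⁻¹)⁻¹ = t := by rw [← ht]; group
    rw [e]
    exact hgt
  rcases exists_conj_inv hu with ⟨h, hh⟩ | ⟨h, hh⟩
  · obtain ⟨h1, h2⟩ := hconj h _ hh
    rcases conj_of_z0 h1 h2 with ⟨c, hc⟩ | ⟨c, hc⟩
    · exact key h c _ hc (g3a known)
    · exact key h c _ hc (g3b known)
  · obtain ⟨h1, h2⟩ := hconj h _ hh
    obtain ⟨c, hc⟩ := conj_of_e0 h1 h2
    exact key h c _ hc (g3c known)

theorem good (g : Suz) (hg : (orderOf g).Prime) : GoodI g := by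
  have hfin : Finite Suz := Nat.finite_of_card_ne_zero (by rw [card_Suz]; norm_num)
  have hd : orderOf g ∣ 448345497600 := by
    rw [← card_Suz]
    exact orderOf_dvd_natCard g
  have hp : orderOf g = 2 ∨ orderOf g = 3 ∨ orderOf g = 5 ∨ orderOf g = 7 ∨ orderOf g = 11 ∨ orderOf g = 13 := by
    have h1 : orderOf g ∣ 2 ^ 13 * (3 ^ 7 * (5 ^ 2 * (7 * (11 * 13)))) := hd.trans (by norm_num)
    have hpr : ∀ {a : ℕ}, a.Prime → orderOf g ∣ a → orderOf g = a := fun ha h => (Nat.prime_dvd_prime_iff_eq hg ha).1 h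
    rcases hg.dvd_mul.1 h1 with h | h
    · exact Or.inl (hpr Nat.prime_two (hg.dvd_of_dvd_pow h))
    rcases hg.dvd_mul.1 h with h | h
    · exact Or.inr (Or.inl (hpr Nat.prime_three (hg.dvd_of_dvd_pow h)))
    rcases hg.dvd_mul.1 h with h | h
    · exact Or.inr (Or.inr (Or.inl (hpr (by norm_num) (hg.dvd_of_dvd_pow h))))
    rcases hg.dvd_mul.1 h with h | h
    · exact Or.inr (Or.inr (Or.inr (Or.inl (hpr (by norm_num) h))))
    rcases hg.dvd_mul.1 h with h | h
    · exact Or.inr (Or.inr (Or.inr (Or.inr (Or.inl (hpr (by norm_num) h)))))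
    · exact Or.inr (Or.inr (Or.inr (Or.inr (Or.inr (hpr (by norm_num) h)))))
  rcases hp with h | h | h | h | h | h
  · rcases exists_conj_inv h with ⟨c, hc⟩ | ⟨c, hc⟩
    · refine GoodI.of_conj c⁻¹ ?_
      have e : c⁻¹ * g * c⁻¹⁻¹ = z0 := by rw [← hc]; group
      rw [e]
      exact g2a known
    · refine GoodI.of_conj c⁻¹ ?_
      have e : c⁻¹ * g * c⁻¹⁻¹ = e0 := by rw [← hc]; group
      rw [e]
      exact g2b known
  · exact g3 known h
  · exact g5 known h
  · exact goodI_of_sq (by norm_num) (by rw [card_Suz]; norm_num) orderOf_u7 (g7 known) g h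
  · refine ⟨u13, top_of known (Subgroup.subset_closure (Or.inl rfl)) (Subgroup.subset_closure (Or.inr rfl)) ?_ ?_⟩
    · rw [orderOf_u13]
    · rw [h]
  · refine ⟨el [.e, .c, .g, .d, .b, .f], top_of known (Subgroup.subset_closure (Or.inr rfl))
      (Subgroup.subset_closure (Or.inl rfl)) ?_ ?_⟩
    · rw [h]
    · exact dvd_of_pt (Rep.el _) (by norm_num) (p := 0) (q := 1) (by decide +kernel) (by decide +kernel) (by norm_num)

theorem good_rho : GoodA ρρ :=
  goodA_of known [.a, .g, .f, .d, .b, .c, .b, .e, .f, .a, .b] [.a, .f, .g, .d, .b, .c, .b, .e, .g, .a, .b]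
    (KFacts.SuzRho.rho_el _) 0 1477 0 1
    (by decide +kernel) (by decide +kernel) (by norm_num) (by decide +kernel) (by decide +kernel) (by norm_num)

theorem good_sigma : GoodA σσ :=
  goodA_of known [.g, .b, .f, .a, .d, .c, .a, .g, .d, .b, .a, .c, .e] [.d, .f, .b, .g, .a, .d, .c, .a, .f, .d, .b, .a, .c, .e, .d]
    (KFacts.SuzRho.sigma_el _) 0 1385 0 2
    (by decide +kernel) (by decide +kernel) (by norm_num) (by decide +kernel) (by decide +kernel) (by norm_num)

theorem goodA_outer (a : MulAut Suz) (ha : orderOf a = 2) (hne : ∀ g : Suz, a ≠ MulAut.conj g) : GoodA a := by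
  have haa : a * a = 1 := by rw [← pow_two, ← ha, pow_orderOf_eq_one]
  rcases KFacts.SuzInvol.outer haa hne with ⟨g, h⟩ | ⟨g, h⟩
  · refine GoodA.of_conj (MulAut.conj g)⁻¹ ?_
    have e : (MulAut.conj g)⁻¹ * a * (MulAut.conj g)⁻¹⁻¹ = ρρ := by rw [h]; group
    rw [e]
    exact good_rho known
  · refine GoodA.of_conj (MulAut.conj (g * (el [.e, .d])⁻¹))⁻¹ ?_
    have e : (MulAut.conj (g * (el [.e, .d])⁻¹))⁻¹ * a * (MulAut.conj (g * (el [.e, .d])⁻¹))⁻¹⁻¹ = σσ := by
      rw [h, KFacts.SuzInvol.sigma_eq, map_mul, map_inv]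
      group
    rw [e]
    exact good_sigma known

theorem spr_model : H424.Spr.Spr Suz := by
  have hs : IsSimpleGroup Suz := simple
  have hfin : Finite Suz := Nat.finite_of_card_ne_zero (by rw [card_Suz]; norm_num)
  refine spr_of_out_two (exists_not_comm card_Suz (by norm_num)) (good known) (fun a => ?_) (goodA_outer known)
  have hn : (MulAut.conj : Suz →* MulAut Suz).range.Normal := by
    constructor
    rintro _ ⟨g, rfl⟩ b
    exact ⟨b g, by
      ext x
      simp [MulAut.conj_apply]⟩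
  have h2 : a * a ∈ (MulAut.conj : Suz →* MulAut Suz).range := by
    rcases KFacts.SuzOut.index_eq with h | h
    · rw [Subgroup.index_eq_one.1 h]; exact Subgroup.mem_top _
    · exact Subgroup.mul_self_mem_of_index_two h a
  obtain ⟨g, hg⟩ := h2
  exact ⟨g, hg.symm⟩

end

/-- **S3938, the row `Suz`.** -/
theorem spr_suz (known : H257.El.Known.{0}) {T : Type} [Group T] [Finite T] (h : Spor.IsoSuz T) : H424.Spr.Spr T := by
  obtain ⟨e⟩ := h
  exact H424.Spr.Spr.congr e.symm (spr_model known)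

end Cfsg.Agent.H602.SprSuz
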