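import Cfsg.Agent.H495.SprThRep
import Cfsg.Agent.H328.SprThTop

/-!
# S3938, the row `Th`, final form (helper602, helper495, helper328)
-/

set_option autoImplicit false

namespace Cfsg.Agent.H602.SprTh

open Cfsg

/-- **S3938, the row `Th`.** -/
theorem spr_th (known : H257.El.Known.{0}) {T : Type} [Group T] [Finite T] (h : Spor.IsoTh T) : H424.Spr.Spr T :=
  spr_th_of (fun _ hR h19 h => H328.SprThTop.not_both known hR h19 h) Cfsg.Agent.H495.SprThRep.reps h

end Cfsg.Agent.H602.SprTh
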